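import Cfsg.Agent.OD.Pre
import Cfsg.Agent.H6.Top2
import Cfsg.Agent.H6.D4A.D0
set_option autoImplicit false
set_option maxRecDepth 100000
set_option Elab.async false
set_option linter.all false
namespace CfH6.D4A
open CfH6 MulAction
noncomputable def n0_0 : Net := mkNet (nat_lit 1024) [(nat_lit 512, k0), (nat_lit 256, k1), (nat_lit 128, k2), (nat_lit 64, k3), (nat_lit 32, k4), (nat_lit 16, k5), (nat_lit 8, k6), (nat_lit 4, k7), (nat_lit 2, k8)] [(k9, nat_lit 1)]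
noncomputable def n0_1 : Net := mkNet (nat_lit 1024) [(nat_lit 512, k10), (nat_lit 256, k11), (nat_lit 128, k12), (nat_lit 64, k13), (nat_lit 32, k14), (nat_lit 16, k15), (nat_lit 8, k16), (nat_lit 4, k17), (nat_lit 2, k18)] [(k19, nat_lit 1)]
noncomputable def n0_2 : Net := mkNet (nat_lit 1024) [(nat_lit 512, (nat_lit 0)), (nat_lit 256, k20), (nat_lit 128, k21), (nat_lit 64, k22), (nat_lit 32, k23), (nat_lit 16, k24), (nat_lit 8, k25), (nat_lit 4, k26), (nat_lit 2, k27)] [(k28, nat_lit 1)]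
noncomputable def n0_3 : Net := mkNet (nat_lit 1024) [(nat_lit 512, k29), (nat_lit 256, k30), (nat_lit 128, k31), (nat_lit 64, k32), (nat_lit 32, k33), (nat_lit 16, k34), (nat_lit 8, k35), (nat_lit 4, k36), (nat_lit 2, k37)] [(k38, nat_lit 1)]
noncomputable def n0_4 : Net := mkNet (nat_lit 1024) [(nat_lit 512, (nat_lit 0)), (nat_lit 256, k39), (nat_lit 128, k40), (nat_lit 64, k41), (nat_lit 32, k42), (nat_lit 16, k43), (nat_lit 8, k44), (nat_lit 4, k45), (nat_lit 2, k46)] [(k47, nat_lit 1)]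
noncomputable def n0_5 : Net := mkNet (nat_lit 1024) [(nat_lit 512, k48), (nat_lit 256, k49), (nat_lit 128, k50), (nat_lit 64, k51), (nat_lit 32, k52), (nat_lit 16, k53), (nat_lit 8, k54), (nat_lit 4, k55), (nat_lit 2, k56)] [(k57, nat_lit 1)]
noncomputable def n0_6 : Net := revNet n0_5
noncomputable def n0_7 : Net := mkNet (nat_lit 1024) [(nat_lit 512, k58), (nat_lit 256, k59), (nat_lit 128, k60), (nat_lit 64, k61), (nat_lit 32, k62), (nat_lit 16, k63), (nat_lit 8, k64), (nat_lit 4, k65), (nat_lit 2, k66)] [(k67, nat_lit 1)]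
noncomputable def n0_8 : Net := revNet n0_7
noncomputable def n2_0 : Net := mkNet (nat_lit 12) [(nat_lit 6, (nat_lit 0x820)), (nat_lit 3, (nat_lit 0x724))] [((nat_lit 0x208), nat_lit 1), ((nat_lit 0x490), nat_lit 1), ((nat_lit 0x48), nat_lit 1)]
noncomputable def n2_1 : Net := mkNet (nat_lit 12) [(nat_lit 6, (nat_lit 0x820)), (nat_lit 3, (nat_lit 0xe00))] [((nat_lit 0x8), nat_lit 1)]
noncomputable def n2_2 : Net := mkNet (nat_lit 12) [(nat_lit 6, (nat_lit 0x92)), (nat_lit 3, (nat_lit 0xfb4))] [((nat_lit 0x240), nat_lit 1), ((nat_lit 0x402), nat_lit 1), ((nat_lit 0x200), nat_lit 1)]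
noncomputable def n2_3 : Net := mkNet (nat_lit 12) [(nat_lit 6, (nat_lit 0x820)), (nat_lit 3, (nat_lit 0xc00))] [((nat_lit 0x240), nat_lit 1), ((nat_lit 0x480), nat_lit 1)]
noncomputable def n5_0 : Net := mkNet (nat_lit 8) [(nat_lit 4, (nat_lit 0)), (nat_lit 2, (nat_lit 0x80))] [((nat_lit 0x40), nat_lit 1)]
noncomputable def nets0 : List Net := [n0_0, n0_1, n0_2, n0_3, n0_4, n0_5, n0_6, n0_7, n0_8]
noncomputable def nets1 : List Net := [n0_0, n0_2, n0_3, n0_4, n0_5, n0_7]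
def ws1 : List (List ℕ) := [[0],
  [2],
  [3],
  [4],
  [5],
  [7]]
noncomputable def nets2 : List Net := [n2_0, n2_1, n2_2, n2_3]
def ws2 : List (List ℕ) := [[2],
  [3],
  [4],
  [5]]
noncomputable def nets3 : List Net := [n2_1, n2_2, n2_3]
def ws3 : List (List ℕ) := [[1],
  [2],
  [3]]
noncomputable def nets4 : List Net := [n2_2, n2_3]
def ws4 : List (List ℕ) := [[1],
  [2]]
noncomputable def nets5 : List Net := [n5_0]
def ws5 : List (List ℕ) := [[1]]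
def sig : List (List ℕ) := [[0],
  [1],
  [2],
  [3],
  [4],
  [5],
  [6],
  [7],
  [8]]
def eqs0 : List (List ℕ × List ℕ) := [([0, 0], []),
  ([1, 1], []),
  ([2, 2], []),
  ([3, 3], []),
  ([4, 4], []),
  ([5, 6], []),
  ([7, 8], []),
  ([0, 1, 0], [1, 0, 1]),
  ([0, 4], [4, 0]),
  ([1, 2, 1], [2, 1, 2]),
  ([1, 3], [3, 1]),
  ([1, 4], [4, 1]),
  ([0, 3, 2, 3, 2], [2, 3, 2, 3]),
  ([2, 4], [4, 2]),
  ([3, 4, 3], [4, 3, 4]),
  ([1, 2, 3, 4, 1, 2, 3, 4, 1, 2, 3, 4, 1, 2, 3, 4], [4, 3, 2, 1, 4, 3, 2, 1, 4, 3, 2, 1, 4, 3, 2, 1]),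
  ([5, 5, 5, 5], [6, 6, 6]),
  ([6, 0], [0, 6]),
  ([6, 1], [1, 6]),
  ([6, 2], [2, 6]),
  ([5, 3], [3, 6]),
  ([4, 6, 4, 6, 6], [6, 6, 6, 4]),
  ([7, 7], [8]),
  ([8, 0], [0, 8]),
  ([8, 1], [1, 8]),
  ([8, 2], [2, 8]),
  ([8, 3], [3, 8]),
  ([8, 4], [4, 8]),
  ([8, 5, 7], [5, 5])]
def eqs : List (List ℕ × List ℕ) := eqs0
def lU : List (ℕ × ℕ) := [(0, 11), (12, 808)]
noncomputable def U : ℕ := ivls lU
def l1 : List (ℕ × ℕ) := [(1, 10), (12, 502)]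
noncomputable def S1 : ℕ := ivls l1
def w1 : List ℕ := [1]
def l2 : List (ℕ × ℕ) := [(514, 18)]
noncomputable def S2 : ℕ := ivls l2
def w2 : List ℕ := [1, 2, 0, 1]
def l3 : List (ℕ × ℕ) := [(532, 288)]
noncomputable def S3 : ℕ := ivls l3
def w3 : List ℕ := [1, 2, 3, 2, 1]
noncomputable def J : List (List ℕ × ℕ × ℕ) := [(w1, 1, S1), (w2, 514, S2), (w3, 532, S3)]
def lBig : List (ℕ × ℕ) := [(1, 10), (12, 502)]
noncomputable def J3 : List (List ℕ × ℕ × ℕ) := [([1, 0, 3, 0], 1, S1)]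
noncomputable def J2 : List (List ℕ × ℕ × ℕ) := [([2, 3, 0, 3, 0, 3, 0], 1, S1)]
noncomputable def J1 : List (List ℕ × ℕ × ℕ) := [([0], 1, S1)]
def ex : List (List ℕ) := [[4, 0, 3, 2, 5, 1]]
def bs' : List ℕ := [0, 1, 2, 3, 4, 5]
end CfH6.D4A
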